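import Cfsg.Agent.H396.EP.OwnThree
import Cfsg.Agent.H419.EP.Big
import Cfsg.Agent.H59.EP.UB
import Cfsg.Agent.H173.EP.LineBound

/-!
# S3499, layer VII: the count for the socle `PSU(3, q)` in own characteristic (helper640)

`card_le_pow_four` : `|Q| ≤ |A| ^ 4` if there are at most `2 |L| ^ 2` two-point stabilisers, `L` the socle.

`h3_of` : hypothesis `h3` of `H69.EP.ownPSU_of`.
-/

set_option autoImplicit false

namespace Cfsg.Agent.H640.EPC

open Subgroup Cfsg Cfsg.Agent.H284 Cfsg.Agent.H419.EP Cfsg.Agent.H59.EP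
open scoped MatrixGroups

/-- `|Q| ≤ |A| ^ 4` from the line bound -/
theorem card_le_pow_four {Q : Type} [Group Q] [Finite Q] {A : Subgroup Q} {Γ : Subgroup (MulAut Q)} {ι : Type}
    [Fintype ι] [DecidableEq ι] {F : Type} [Field F] [Fintype F] {S P : Subgroup (GL ι F)} (b : Big A Γ S P)
    {l : ℕ} (hl : l ≤ Nat.card A)
    (hr : {M : Subgroup Q | ∃ x, x ∉ A ∧ M = A ⊓ cj x A}.ncard ≤ 2 * l ^ 2) : Nat.card Q ≤ Nat.card A ^ 4 := by
  have hab : ∀ K : Subgroup Q, K ≤ A → (∀ a ∈ A, ∀ k ∈ K, a * k * a⁻¹ ∈ K) →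
      (∀ a ∈ K, ∀ b ∈ K, a * b = b * a) → K = ⊥ := by
    intro K h1 h2 h3
    refine b.hasSoc.no_abelian b.core.simple ?_ h1 h2 h3
    intro hc
    exact b.core.nonabelian ⟨⟨hc⟩⟩
  have h6 : 6 ≤ Nat.card A := by
    obtain ⟨x, hx⟩ := b.ept.exists_notMem
    exact (EPT.six_le b.ept hab hx).trans (Nat.le_of_dvd Nat.card_pos (Subgroup.card_dvd_of_le inf_le_left))
  have h1 := Cfsg.Agent.H173.EP.ub1 b.simple b.ept (μ := 6) (by norm_num) fun _ hx => EPT.six_le b.ept hab hx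
  set a := Nat.card A with ha
  have h2 : A.index ≤ 1 + 2 * a ^ 2 * (2 * (a / 6)) := by
    refine h1.trans (Nat.add_le_add_left (Nat.mul_le_mul_right _ (hr.trans ?_)) 1)
    exact Nat.mul_le_mul_left _ (Nat.pow_le_pow_left hl 2)
  have h3 : 6 * (a / 6) ≤ a := Nat.mul_div_le a 6
  have h4 : A.index ≤ a ^ 3 := by
    refine h2.trans ?_
    have h5 : 3 * (2 * a ^ 2 * (2 * (a / 6))) ≤ 2 * a ^ 3 := by
      calc 3 * (2 * a ^ 2 * (2 * (a / 6))) = 2 * a ^ 2 * (6 * (a / 6)) := by ring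
        _ ≤ 2 * a ^ 2 * a := Nat.mul_le_mul_left _ h3
        _ = 2 * a ^ 3 := by ring
    have h7 : 6 ^ 3 ≤ a ^ 3 := Nat.pow_le_pow_left h6 3
    omega
  rw [← A.card_mul_index, ← ha]
  calc a * A.index ≤ a * a ^ 3 := Nat.mul_le_mul_left _ h4
    _ = a ^ 4 := by ring

/-- **`h3` of `H69.EP.ownPSU_of`** -/
theorem h3_of (hg : TwoGen.{0}) {Q : Type} [Group Q] [Finite Q] {A : Subgroup Q} {Γ : Subgroup (MulAut Q)} {ι : Type}
    [Fintype ι] [DecidableEq ι] {F : Type} [Field F] [Fintype F] {S P : Subgroup (Matrix.GeneralLinearGroup ι F)}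
    (b : Big A Γ S P) (K : Type) [Field K] [Fintype K] (q : ℕ) (hK : Fintype.card K = q ^ 2) (hq : 3 ≤ q)
    (_hc : ringChar F = ringChar K) (e : Nonempty (socle P ≃* Cfsg.PSU 3 K q)) : Nat.card Q ≤ Nat.card A ^ 4 := by
  obtain ⟨e⟩ := e
  have hS : HasSoc A (Cfsg.PSU 3 K q) := b.hasSoc' e
  refine card_le_pow_four b ?_ (Cfsg.Agent.H396.EP.r_psu3 hg b.ept hK (by omega) hS)
  exact Nat.le_of_dvd Nat.card_pos hS.card_dvd

end Cfsg.Agent.H640.EPC
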