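import Mathlib

/-!
# Counting subgroups (helper640, for S3499)

* `card_two_gen` : the number of subgroups with trivial centre generated by an element of `S` and another element;
* `ea_step`, `ea_card` : the number of elementary abelian `p`-subgroups of order `p ^ k`.
-/

set_option autoImplicit false
set_option linter.unusedSectionVars false

namespace Cfsg.Agent.H640.EPC

open Subgroup

variable {G : Type*} [Group G] [Finite G]

theorem closure_conj (a b k : G) :
    (closure {a, b}).map (MulAut.conj k).toMonoidHom = closure {k * a * k⁻¹, k * b * k⁻¹} := by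
  rw [MonoidHom.map_closure, Set.image_pair]
  rfl

/-- **2-generated subgroups with trivial centre** -/
theorem card_two_gen (S : Set G) (hS : ∀ a ∈ S, ∀ g, g * a * g⁻¹ ∈ S) (m : ℕ) (X : Set (Subgroup G))
    (h : ∀ K ∈ X, (∃ a ∈ S, ∃ b, closure {a, b} = K) ∧ (∀ z ∈ K, (∀ k ∈ K, z * k = k * z) → z = 1) ∧
      m ≤ Nat.card K) : m * X.ncard ≤ S.ncard * Nat.card G := by
  classical
  have hfin : Finite (Subgroup G) := inferInstance
  have := Fintype.ofFinite X
  choose a ha b hab using fun K : X => (h K K.2).1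
  let f : (Σ K : X, (K : Subgroup G)) → S × G := fun x =>
    (⟨x.2 * a x.1 * (x.2 : G)⁻¹, hS _ (ha x.1) _⟩, x.2 * b x.1 * (x.2 : G)⁻¹)
  have hf : Function.Injective f := by
    rintro ⟨K, k⟩ ⟨L, l⟩ hkl
    have e1 : (k : G) * a K * (k : G)⁻¹ = l * a L * (l : G)⁻¹ := congrArg (fun z : S × G => (z.1 : G)) hkl
    have e2 : (k : G) * b K * (k : G)⁻¹ = l * b L * (l : G)⁻¹ := congrArg Prod.snd hkl
    have key : ∀ (K : X) (k : (K : Subgroup G)),
        closure {(k : G) * a K * (k : G)⁻¹, k * b K * (k : G)⁻¹} = K := by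
      intro K k
      rw [← closure_conj, hab]
      ext y
      constructor
      · rintro ⟨z, hz, rfl⟩
        exact (K : Subgroup G).mul_mem ((K : Subgroup G).mul_mem k.2 hz) ((K : Subgroup G).inv_mem k.2)
      · intro hy
        refine ⟨(k : G)⁻¹ * y * k, (K : Subgroup G).mul_mem ((K : Subgroup G).mul_mem
          ((K : Subgroup G).inv_mem k.2) hy) k.2, ?_⟩
        show (k : G) * ((k : G)⁻¹ * y * k) * (k : G)⁻¹ = y
        group
    have hKL : K = L := Subtype.ext (by rw [← key K k, ← key L l, e1, e2])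
    subst hKL
    have h1 : (k : G)⁻¹ * l = 1 := by
      apply (h K K.2).2.1 _ ((K : Subgroup G).mul_mem ((K : Subgroup G).inv_mem k.2) l.2)
      have h2 : (K : Subgroup G) ≤ centralizer {(k : G)⁻¹ * l} := by
        conv_lhs => rw [← hab K]
        rw [closure_le]
        rintro y (rfl | hy)
        · rw [SetLike.mem_coe, mem_centralizer_singleton_iff]
          calc a K * ((k : G)⁻¹ * l) = (k : G)⁻¹ * (k * a K * (k : G)⁻¹) * l := by group
            _ = (k : G)⁻¹ * (l * a K * (l : G)⁻¹) * l := by rw [e1]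
            _ = (k : G)⁻¹ * l * a K := by group
        · rw [Set.mem_singleton_iff] at hy
          subst hy
          rw [SetLike.mem_coe, mem_centralizer_singleton_iff]
          calc b K * ((k : G)⁻¹ * l) = (k : G)⁻¹ * (k * b K * (k : G)⁻¹) * l := by group
            _ = (k : G)⁻¹ * (l * b K * (l : G)⁻¹) * l := by rw [e2]
            _ = (k : G)⁻¹ * l * b K := by group
      intro y hy
      exact (mem_centralizer_singleton_iff.mp (h2 hy)).symm
    have h2 : k = l := Subtype.ext (by rw [inv_mul_eq_one] at h1; exact h1)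
    rw [h2]
  have h1 := Nat.card_le_card_of_injective f hf
  rw [Nat.card_prod, Nat.card_sigma] at h1
  have h2 : (Finset.univ : Finset X).card • m ≤ ∑ K : X, Nat.card (K : Subgroup G) :=
    Finset.card_nsmul_le_sum _ _ _ fun K _ => (h K K.2).2.2
  rw [Finset.card_univ, smul_eq_mul] at h2
  rw [← Nat.card_coe_set_eq, ← Nat.card_coe_set_eq, Nat.card_eq_fintype_card (α := X), mul_comm]
  exact h2.trans h1

section ea

variable {p : ℕ} [hp : Fact p.Prime]

/-- elementary abelian subgroups of order `p ^ k` -/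
def EA (G : Type*) [Group G] (p k : ℕ) : Set (Subgroup G) :=
  {E | Nat.card E = p ^ k ∧ (∀ a ∈ E, ∀ b ∈ E, a * b = b * a) ∧ ∀ a ∈ E, a ^ p = 1}

/-- those containing `x` -/
def EAx (G : Type*) [Group G] (p k : ℕ) (x : G) : Set (Subgroup G) := {E | E ∈ EA G p k ∧ x ∈ E}

theorem card_over {C k : ℕ} {x : G} (hC : Nat.card (centralizer ({x} : Set G)) ≤ C) {E' : Subgroup G}
    (hE' : E' ∈ EAx G p k x) :
    {E : Subgroup G | E ∈ EA G p (k + 1) ∧ E' ≤ E}.ncard ≤ (C - p ^ k) / (p ^ (k + 1) - p ^ k) := by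
  classical
  have hfin : {E : Subgroup G | E ∈ EA G p (k + 1) ∧ E' ≤ E}.Finite := Set.toFinite _
  have := Fintype.ofFinite G
  have hlt : p ^ k < p ^ (k + 1) := Nat.pow_lt_pow_right hp.out.one_lt (Nat.lt_succ_self k)
  have hd : 0 < p ^ (k + 1) - p ^ k := Nat.sub_pos_of_lt hlt
  rw [Nat.le_div_iff_mul_le hd]
  set T : Finset (Subgroup G) := hfin.toFinset with hT
  have hmem : ∀ E, E ∈ T ↔ E ∈ EA G p (k + 1) ∧ E' ≤ E := fun E => by
    rw [hT, Set.Finite.mem_toFinset]
    rfl
  rw [Set.ncard_eq_toFinset_card _ hfin]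
  let f : Subgroup G → Finset G := fun E => ((E : Set G) \ E').toFinset
  have hcE' : ((E' : Set G)).ncard = p ^ k := by
    rw [← hE'.1.1]; rfl
  have hdis : ∀ E ∈ T, ∀ F ∈ T, E ≠ F → Disjoint (f E) (f F) := by
    intro E hE F hF hne
    rw [hmem] at hE hF
    rw [Finset.disjoint_left]
    intro y hy hy'
    rw [Set.mem_toFinset] at hy hy'
    apply hne
    have hdv : Nat.card (E ⊓ F : Subgroup G) ∣ p ^ (k + 1) := by
      rw [← hE.1.1]; exact card_dvd_of_le inf_le_left
    obtain ⟨j, hj, hj'⟩ := (Nat.dvd_prime_pow hp.out).1 hdv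
    have hlt2 : p ^ k < Nat.card (E ⊓ F : Subgroup G) := by
      rw [← hE'.1.1]
      have h1 : E' < E ⊓ F := lt_of_le_of_ne (le_inf hE.2 hF.2) (fun he => hy.2 (by
        rw [he]; exact ⟨hy.1, hy'.1⟩))
      have h2 : (E' : Set G).ncard < ((E ⊓ F : Subgroup G) : Set G).ncard :=
        Set.ncard_lt_ncard h1 (Set.toFinite _)
      exact h2
    have hjk : j = k + 1 := by
      rw [hj'] at hlt2
      have := (Nat.pow_lt_pow_iff_right hp.out.one_lt).1 hlt2
      omega
    rw [hjk] at hj'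
    have h3 : E ⊓ F = E := Subgroup.eq_of_le_of_card_ge inf_le_left (by rw [hj', hE.1.1])
    have h4 : E ⊓ F = F := Subgroup.eq_of_le_of_card_ge inf_le_right (by rw [hj', hF.1.1])
    rw [← h3, h4]
  have hcard : ∀ E ∈ T, p ^ (k + 1) - p ^ k ≤ (f E).card := by
    intro E hE
    rw [hmem] at hE
    have h1 : (f E).card = ((E : Set G) \ E').ncard := (Set.ncard_eq_toFinset_card' _).symm
    have h2 := Set.le_ncard_sdiff (E' : Set G) (E : Set G)
    have h3 : (E : Set G).ncard = p ^ (k + 1) := by rw [← hE.1.1]; rfl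
    rw [h1]
    rw [h3, hcE'] at h2
    exact h2
  have hbU : (T.biUnion f).card = ∑ E ∈ T, (f E).card := Finset.card_biUnion hdis
  have hle : (T.biUnion f).card ≤ C - p ^ k := by
    have h1 : T.biUnion f ⊆ ((centralizer ({x} : Set G) : Set G) \ E').toFinset := by
      intro y hy
      rw [Finset.mem_biUnion] at hy
      obtain ⟨E, hE, hy⟩ := hy
      rw [hmem] at hE
      rw [Set.mem_toFinset] at hy ⊢
      refine ⟨?_, hy.2⟩
      rw [SetLike.mem_coe, mem_centralizer_singleton_iff]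
      exact hE.1.2.1 _ hy.1 _ (hE.2 hE'.2)
    refine (Finset.card_le_card h1).trans ?_
    have h2 : (((centralizer ({x} : Set G) : Set G) \ E').toFinset).card =
        ((centralizer ({x} : Set G) : Set G) \ E').ncard := (Set.ncard_eq_toFinset_card' _).symm
    have hsub : (E' : Set G) ⊆ (centralizer ({x} : Set G) : Set G) := fun y hy => by
      rw [SetLike.mem_coe, mem_centralizer_singleton_iff]
      exact hE'.1.2.1 _ hy _ hE'.2
    have h3 := Set.ncard_sdiff hsub (Set.toFinite _)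
    rw [h2, h3, hcE']
    have h4 : ((centralizer ({x} : Set G) : Set G)).ncard ≤ C := hC
    omega
  have hsum : T.card * (p ^ (k + 1) - p ^ k) ≤ ∑ E ∈ T, (f E).card := by
    rw [← smul_eq_mul]
    exact Finset.card_nsmul_le_sum _ _ _ hcard
  rw [← hbU] at hsum
  exact hsum.trans hle

theorem ea_step {C k : ℕ} (hk : 1 ≤ k) {x : G} (hx : x ≠ 1) (hC : Nat.card (centralizer ({x} : Set G)) ≤ C) :
    (EAx G p (k + 1) x).ncard ≤ (EAx G p k x).ncard * ((C - p ^ k) / (p ^ (k + 1) - p ^ k)) := by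
  classical
  have hfin : (EAx G p k x).Finite := Set.toFinite _
  have hfin1 : ∀ E' : Subgroup G, {E : Subgroup G | E ∈ EA G p (k + 1) ∧ E' ≤ E}.Finite := fun _ => Set.toFinite _
  let T := hfin.toFinset
  have hsub : EAx G p (k + 1) x ⊆ (T.biUnion fun E' => (hfin1 E').toFinset : Finset (Subgroup G)) := by
    rintro E ⟨hE, hxE⟩
    -- a subgroup of order `p ^ k` containing `x`
    have hordx : orderOf (⟨x, hxE⟩ : E) = p := by
      apply orderOf_eq_prime
      · exact Subtype.ext (hE.2.2 x hxE)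
      · exact fun h => hx (congrArg Subtype.val h)
    obtain ⟨K, hK, hxK⟩ := Sylow.exists_subgroup_card_pow_prime_le (G := E) (p := p) (m := k) (n := 1)
      (by rw [hE.1]; exact pow_dvd_pow p (Nat.le_succ k)) (zpowers ⟨x, hxE⟩) (by
        rw [Nat.card_zpowers, hordx, pow_one]) hk
    have hK' : K.map E.subtype ∈ EAx G p k x := by
      refine ⟨⟨?_, ?_, ?_⟩, ?_⟩
      · rw [card_map_of_injective E.subtype_injective, hK]
      · rintro _ ⟨u, _, rfl⟩ _ ⟨v, _, rfl⟩
        exact hE.2.1 _ u.2 _ v.2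
      · rintro _ ⟨u, _, rfl⟩
        exact hE.2.2 _ u.2
      · exact ⟨⟨x, hxE⟩, hxK (mem_zpowers _), rfl⟩
    rw [Finset.mem_coe, Finset.mem_biUnion]
    refine ⟨K.map E.subtype, hfin.mem_toFinset.2 hK', ?_⟩
    rw [Set.Finite.mem_toFinset]
    exact ⟨hE, map_subtype_le K⟩
  have h1 := Set.ncard_le_ncard hsub (Finset.finite_toSet _)
  rw [Set.ncard_coe_finset] at h1
  refine h1.trans (Finset.card_biUnion_le.trans ?_)
  rw [Set.ncard_eq_toFinset_card _ hfin, ← smul_eq_mul]
  refine Finset.sum_le_card_nsmul _ _ _ fun E' hE' => ?_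
  rw [← Set.ncard_eq_toFinset_card _ (hfin1 E')]
  exact card_over hC (hfin.mem_toFinset.1 hE')

theorem eax_one (x : G) (hx : x ≠ 1) : (EAx G p 1 x).ncard ≤ 1 := by
  rw [Set.ncard_le_one_iff]
  rintro E F ⟨hE, hxE⟩ ⟨hF, hxF⟩
  have key : ∀ E : Subgroup G, E ∈ EA G p 1 → x ∈ E → zpowers x = E := by
    intro E hE hxE
    apply Subgroup.eq_of_le_of_card_ge (zpowers_le.2 hxE)
    rw [hE.1, pow_one, Nat.card_zpowers, orderOf_eq_prime (hE.2.2 x hxE) hx]
  rw [← key E hE hxE, ← key F hF hxF]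

/-- the bound `B_k` -/
def bnd (C p : ℕ) : ℕ → ℕ
  | 0 => 1
  | 1 => 1
  | k + 2 => bnd C p (k + 1) * ((C - p ^ (k + 1)) / (p ^ (k + 2) - p ^ (k + 1)))

theorem eax_le {C : ℕ} {x : G} (hx : x ≠ 1) (hC : Nat.card (centralizer ({x} : Set G)) ≤ C) (k : ℕ) :
    (EAx G p (k + 1) x).ncard ≤ bnd C p (k + 1) := by
  induction k with
  | zero => exact eax_one x hx
  | succ k ih => exact (ea_step (by omega) hx hC).trans (Nat.mul_le_mul_right _ ih)

/-- **elementary abelian subgroups of order `p ^ k`** -/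
theorem ea_card {C m k : ℕ} (hk : 1 ≤ k) (hm : {x : G | x ≠ 1 ∧ x ^ p = 1}.ncard ≤ m)
    (hC : ∀ x : G, x ≠ 1 → x ^ p = 1 → Nat.card (centralizer ({x} : Set G)) ≤ C) :
    (EA G p k).ncard * (p ^ k - 1) ≤ m * bnd C p k := by
  classical
  obtain ⟨k, rfl⟩ := Nat.exists_eq_add_of_le' hk
  have hfinE : (EA G p (k + 1)).Finite := Set.toFinite _
  have hfinX : {x : G | x ≠ 1 ∧ x ^ p = 1}.Finite := Set.toFinite _
  rw [Set.ncard_eq_toFinset_card _ hfinE]
  rw [Set.ncard_eq_toFinset_card _ hfinX] at hm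
  have h1 := Finset.card_mul_le_card_mul (s := hfinE.toFinset) (t := hfinX.toFinset)
    (fun (E : Subgroup G) (x : G) => x ∈ E) (m := p ^ (k + 1) - 1) (n := bnd C p (k + 1)) ?_ ?_
  · exact h1.trans (Nat.mul_le_mul_right _ hm)
  · intro E hE
    have hE' := hfinE.mem_toFinset.1 hE
    have h2 : ((E : Set G) \ {1}) ⊆ (Finset.bipartiteAbove (fun (E : Subgroup G) (x : G) => x ∈ E)
        hfinX.toFinset E : Finset G) := by
      rintro y ⟨hy, hy1⟩
      rw [Finset.mem_coe, Finset.mem_bipartiteAbove, Set.Finite.mem_toFinset]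
      exact ⟨⟨hy1, hE'.2.2 y hy⟩, hy⟩
    have h3 := Set.ncard_le_ncard h2 (Finset.finite_toSet _)
    rw [Set.ncard_coe_finset, Set.ncard_sdiff (Set.singleton_subset_iff.2 E.one_mem) (Set.toFinite _),
      Set.ncard_singleton] at h3
    have h4 : (E : Set G).ncard = p ^ (k + 1) := by rw [← hE'.1]; rfl
    rwa [h4] at h3
  · intro x hx
    have hx' := hfinX.mem_toFinset.1 hx
    have h2 : ((Finset.bipartiteBelow (fun (E : Subgroup G) (x : G) => x ∈ E) hfinE.toFinset x :
        Finset (Subgroup G)) : Set (Subgroup G)) ⊆ EAx G p (k + 1) x := by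
      intro E hE
      rw [Finset.mem_coe, Finset.mem_bipartiteBelow, Set.Finite.mem_toFinset] at hE
      exact hE
    have h3 := Set.ncard_le_ncard h2 (Set.toFinite _)
    rw [Set.ncard_coe_finset] at h3
    exact h3.trans (eax_le hx'.1 (hC x hx'.1 hx'.2) k)

end ea

end Cfsg.Agent.H640.EPC
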