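import Mathlib

/-!
# Simple subgroups of order divisible by 11 of a group of order 95040 (helper640, for S3499)

* `simple_orders` : `|G| = 95040`, elements of order 11 are self-centralizing: a simple nonabelian subgroup of order divisible
  by 11 has order 660, 7920 or 95040;
* `gen_660` : a simple group of order 660 is generated by an involution and another element.
-/

set_option autoImplicit false
set_option linter.unusedSectionVars false

namespace Cfsg.Agent.H640.EPC

open Subgroup

section

variable {G : Type*} [Group G] [Finite G] {p : ℕ} [hp : Fact p.Prime]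

theorem card_syl_eq (h1 : p ∣ Nat.card G) (h2 : ¬ p ^ 2 ∣ Nat.card G) (P : Sylow p G) : Nat.card (P : Subgroup G) = p := by
  obtain ⟨k, hk⟩ := IsPGroup.iff_card.1 P.isPGroup'
  have h3 : p ∣ Nat.card (P : Subgroup G) := P.dvd_card_of_dvd_card h1
  have h4 : Nat.card (P : Subgroup G) ∣ Nat.card G := Subgroup.card_subgroup_dvd_card _
  rw [hk] at h3 h4 ⊢
  rcases k with _ | _ | k
  · rw [pow_zero] at h3
    exact absurd (Nat.dvd_one.1 h3) hp.out.one_lt.ne'
  · rw [zero_add, pow_one]
  · exact absurd ((pow_dvd_pow p (by omega)).trans h4) h2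

/-- `|N(P)|` divides `p (p - 1)` -/
theorem normalizer_dvd {P : Subgroup G} (hP : Nat.card P = p)
    (hc : ∀ x : G, orderOf x = p → Nat.card (centralizer ({x} : Set G)) = p) :
    Nat.card (normalizer (P : Set G)) ∣ p * (p - 1) := by
  have hcyc : IsCyclic P := isCyclic_of_prime_card hP
  obtain ⟨g, hg⟩ := IsCyclic.exists_ofOrder_eq_natCard (α := P)
  rw [hP] at hg
  have hg' : orderOf (g : G) = p := by rw [Subgroup.orderOf_coe, hg]
  let f := P.normalizerMonoidHom
  have h1 : Nat.card (normalizer (P : Set G)) = Nat.card f.range * Nat.card f.ker := by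
    have h2 := Subgroup.card_mul_index f.ker
    rw [Subgroup.index_ker] at h2
    rw [← h2, mul_comm]
  have h2 : Nat.card f.ker ∣ p := by
    have h3 : f.ker = (centralizer (P : Set G)).subgroupOf (normalizer (P : Set G)) :=
      Subgroup.normalizerMonoidHom_ker _
    rw [h3]
    refine (Subgroup.card_comap_dvd_of_injective _ _ (Subgroup.subtype_injective _)).trans ?_
    have h4 : centralizer (P : Set G) ≤ centralizer ({(g : G)} : Set G) :=
      Subgroup.centralizer_le (Set.singleton_subset_iff.2 g.2)
    have h5 := Subgroup.card_dvd_of_le h4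
    rwa [hc _ hg'] at h5
  have h3 : Nat.card f.range ∣ p - 1 := by
    have h4 : Nat.card (MulAut P) = p - 1 := by
      rw [IsCyclic.card_mulAut, hP, Nat.totient_prime hp.out]
    rw [← h4]
    exact Subgroup.card_subgroup_dvd_card _
  rw [h1, mul_comm p]
  exact mul_dvd_mul h3 h2

end

/-- in a simple nonabelian group `N(P) ≠ P` for `P` of order `p` -/
theorem normalizer_ne {K : Type*} [Group K] [Finite K] [IsSimpleGroup K] (hna : ¬ IsMulCommutative K) {p : ℕ}
    [hp : Fact p.Prime] (P : Sylow p K) (hP : Nat.card (P : Subgroup K) = p) :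
    Nat.card (normalizer ((P : Subgroup K) : Set K)) ≠ p := by
  intro h1
  have hNP : normalizer ((P : Subgroup K) : Set K) = P :=
    (Subgroup.eq_of_le_of_card_ge le_normalizer (by rw [h1, hP])).symm
  have hcyc : IsCyclic (P : Subgroup K) := isCyclic_of_prime_card hP
  have hcomm : normalizer ((P : Subgroup K) : Set K) ≤ centralizer ((P : Subgroup K) : Set K) := by
    rw [hNP]
    intro x hx
    rw [mem_centralizer_iff]
    intro y hy
    have : IsMulCommutative (P : Subgroup K) := hcyc.isMulCommutative
    exact congrArg Subtype.val (mul_comm' (⟨y, hy⟩ : (P : Subgroup K)) ⟨x, hx⟩)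
  have hcompl := MonoidHom.ker_transferSylow_isComplement' P hcomm
  have hcard := hcompl.card_mul_card
  rcases (inferInstance : (MonoidHom.transferSylow P hcomm).ker.Normal).eq_bot_or_eq_top with h2 | h2
  · rw [h2, card_bot, one_mul, hP] at hcard
    apply hna
    have hcK : IsCyclic K := isCyclic_of_prime_card hcard.symm
    exact hcK.isMulCommutative
  · rw [h2, card_top, hP] at hcard
    have h3 : 1 < p := hp.out.one_lt
    have h4 : 0 < Nat.card K := Nat.card_pos
    have h5 : Nat.card K * p = Nat.card K * 1 := by rw [hcard, mul_one]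
    have h6 := Nat.eq_of_mul_eq_mul_left h4 h5
    omega

/-- in a simple nonabelian group a Sylow subgroup of prime order is not normal -/
theorem card_syl_ne_one {K : Type*} [Group K] [Finite K] [IsSimpleGroup K] (hna : ¬ IsMulCommutative K) {p : ℕ}
    [hp : Fact p.Prime] (P : Sylow p K) (hP : Nat.card (P : Subgroup K) = p) : Nat.card (Sylow p K) ≠ 1 := by
  intro h
  rw [P.card_eq_index_normalizer, Subgroup.index_eq_one] at h
  have hn : (P : Subgroup K).Normal := normalizer_eq_top_iff.1 h
  rcases hn.eq_bot_or_eq_top with h1 | h1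
  · rw [h1, card_bot] at hP
    exact hp.out.one_lt.ne hP
  · rw [h1, card_top] at hP
    apply hna
    have hcK : IsCyclic K := isCyclic_of_prime_card hP
    exact hcK.isMulCommutative

/-- **the orders of the simple subgroups** -/
theorem simple_orders {G : Type*} [Group G] [Finite G] (hG : Nat.card G = 95040)
    (hc : ∀ x : G, orderOf x = 11 → Nat.card (centralizer ({x} : Set G)) = 11) (K : Subgroup G) [IsSimpleGroup K]
    (hna : ¬ IsMulCommutative K) (h11 : 11 ∣ Nat.card K) :
    Nat.card K = 660 ∨ Nat.card K = 7920 ∨ Nat.card K = 95040 := by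
  have : Fact (Nat.Prime 11) := ⟨by norm_num⟩
  have hGd : ∀ L : Subgroup G, Nat.card L ∣ 95040 := fun L => by
    rw [← hG]; exact Subgroup.card_subgroup_dvd_card _
  obtain ⟨Q⟩ : Nonempty (Sylow 11 K) := inferInstance
  have hQ : Nat.card (Q : Subgroup K) = 11 := card_syl_eq h11 (fun h => by
    have := h.trans (hGd K)
    norm_num at this) Q
  set Q' : Subgroup G := (Q : Subgroup K).map K.subtype with hQ'
  have hQ'c : Nat.card Q' = 11 := by rw [hQ', card_map_of_injective K.subtype_injective, hQ]
  -- `|N_G(Q')| = 55`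
  have hQ'p : IsPGroup 11 Q' := IsPGroup.of_card (n := 1) (by rw [hQ'c, pow_one])
  obtain ⟨P, hP⟩ := hQ'p.exists_le_sylow
  have hPc : Nat.card (P : Subgroup G) = 11 := card_syl_eq (by rw [hG]; norm_num) (by rw [hG]; norm_num) P
  have hPQ : Q' = P := Subgroup.eq_of_le_of_card_ge hP (by rw [hPc, hQ'c])
  have h110 : Nat.card (normalizer ((P : Subgroup G) : Set G)) ∣ 110 := normalizer_dvd hPc hc
  have hN55 : Nat.card (normalizer ((P : Subgroup G) : Set G)) = 55 := by
    have hidx : Nat.card (Sylow 11 G) = (normalizer ((P : Subgroup G) : Set G)).index := P.card_eq_index_normalizer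
    have hmod : Nat.card (Sylow 11 G) % 11 = 1 := card_sylow_modEq_one 11 G
    have hmul := Subgroup.card_mul_index (normalizer ((P : Subgroup G) : Set G))
    rw [← hidx, hG] at hmul
    have hcases : ∀ m ∈ Nat.divisors 110, ∀ k : ℕ, m * k = 95040 → k % 11 = 1 → m = 55 := by
      intro m hm k hk hk1
      have h1 : m ∈ ({1, 2, 5, 10, 11, 22, 55, 110} : Finset ℕ) := by
        have h2 : Nat.divisors 110 = {1, 2, 5, 10, 11, 22, 55, 110} := by decide +kernel
        rwa [h2] at hm
      simp only [Finset.mem_insert, Finset.mem_singleton] at h1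
      rcases h1 with rfl | rfl | rfl | rfl | rfl | rfl | rfl | rfl <;> omega
    exact hcases _ (Nat.mem_divisors.2 ⟨h110, by norm_num⟩) _ hmul hmod
  set N' := normalizer ((Q : Subgroup K) : Set K) with hN'
  have hN'le : N'.map K.subtype ≤ normalizer ((P : Subgroup G) : Set G) := by
    rintro _ ⟨g, hg, rfl⟩
    have hg' := mem_normalizer_iff.1 hg
    rw [mem_normalizer_iff]
    intro x
    rw [← hPQ]
    constructor
    · rintro ⟨y, hy, rfl⟩
      exact ⟨g * y * g⁻¹, (hg' y).1 hy, by simp⟩
    · rintro ⟨y, hy, hxy⟩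
      refine ⟨g⁻¹ * y * g, ?_, ?_⟩
      · apply (hg' _).2
        have h1 : g * (g⁻¹ * y * g) * g⁻¹ = y := by group
        rwa [h1]
      · rw [map_mul, map_mul, map_inv, hxy]
        group
  have hN'55 : Nat.card N' ∣ 55 := by
    rw [← hN55, ← Subgroup.card_map_of_injective (f := K.subtype) K.subtype_injective]
    exact Subgroup.card_dvd_of_le hN'le
  have h11N : 11 ∣ Nat.card N' := by
    rw [← hQ]
    exact Subgroup.card_dvd_of_le le_normalizer
  have hN'c : Nat.card N' = 55 := by
    obtain ⟨a, ha⟩ := h11N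
    rw [ha] at hN'55 ⊢
    have h1 : a ∣ 5 := Nat.dvd_of_mul_dvd_mul_left (k := 11) (by norm_num) hN'55
    rcases (Nat.dvd_prime (by norm_num)).1 h1 with rfl | rfl
    · exact absurd (by rw [← hN', ha]) (normalizer_ne hna Q hQ)
    · norm_num
  have hidx : Nat.card (Sylow 11 K) = N'.index := Q.card_eq_index_normalizer
  have hmod : Nat.card (Sylow 11 K) % 11 = 1 := card_sylow_modEq_one 11 K
  have hmul := Subgroup.card_mul_index N'
  rw [← hidx, hN'c] at hmul
  have hne := card_syl_ne_one hna Q hQ
  have h2 : Nat.card (Sylow 11 K) ∣ 1728 := by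
    refine Nat.dvd_of_mul_dvd_mul_left (k := 55) (by norm_num) ?_
    rw [hmul]
    exact hGd K
  have hcases : ∀ m ∈ Nat.divisors 1728, m % 11 = 1 → m = 1 ∨ m = 12 ∨ m = 144 ∨ m = 1728 := by decide +kernel
  rcases hcases _ (Nat.mem_divisors.2 ⟨h2, by norm_num⟩) hmod with h3 | h3 | h3 | h3
  · exact absurd h3 hne
  · left; rw [← hmul, h3]
  · right; left; rw [← hmul, h3]
  · right; right; rw [← hmul, h3]

/-- a subgroup of index `n` of a simple group: the order divides `n!` -/
theorem card_dvd_factorial {K : Type*} [Group K] [Finite K] [IsSimpleGroup K] {L : Subgroup K} (hL : L ≠ ⊤) :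
    Nat.card K ∣ L.index.factorial := by
  have h1 : L.normalCore = ⊥ := by
    rcases (inferInstance : L.normalCore.Normal).eq_bot_or_eq_top with h | h
    · exact h
    · exact absurd (top_le_iff.1 (h ▸ L.normalCore_le)) hL
  rw [Subgroup.normalCore_eq_ker] at h1
  have h2 : Function.Injective (MulAction.toPermHom K (K ⧸ L)) := (MonoidHom.ker_eq_bot_iff _).1 h1
  have h3 := Subgroup.card_dvd_of_injective _ h2
  rwa [Nat.card_perm] at h3

/-- **A simple group of order 660 is generated by an involution and another element.** -/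
theorem gen_660 {K : Type*} [Group K] [Finite K] [IsSimpleGroup K] (hK : Nat.card K = 660) :
    ∃ t g : K, t ≠ 1 ∧ t ^ 2 = 1 ∧ closure {t, g} = ⊤ := by
  have : Fact (Nat.Prime 11) := ⟨by norm_num⟩
  have : Fact (Nat.Prime 2) := ⟨by norm_num⟩
  have hna : ¬ IsMulCommutative K := by
    intro hcomm
    have hpr := (inferInstance : IsSimpleGroup K)
    have hK' : (Nat.card K).Prime := by
      let _ : CommGroup K := { (inferInstance : Group K) with mul_comm := fun a b => hcomm.is_comm.comm a b }
      exact IsSimpleGroup.prime_card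
    rw [hK] at hK'
    norm_num at hK'
  have hdvd : ∀ L : Subgroup K, Nat.card L ∣ 660 := fun L => by
    rw [← hK]; exact Subgroup.card_subgroup_dvd_card _
  obtain ⟨Q⟩ : Nonempty (Sylow 11 K) := inferInstance
  have hQ : Nat.card (Q : Subgroup K) = 11 := card_syl_eq (by rw [hK]; norm_num) (by rw [hK]; norm_num) Q
  have hcases : ∀ m ∈ Nat.divisors 60, m % 11 = 1 → m = 1 ∨ m = 12 := by decide +kernel
  -- the number of Sylow subgroups of `K` and of the subgroups containing `Q`
  have hnum : ∀ (L : Subgroup K) (R : Sylow 11 L), Nat.card (R : Subgroup L) = 11 →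
      (Nat.card (Sylow 11 L) = 1 ∨ Nat.card (Sylow 11 L) = 12) ∧
        Nat.card (normalizer ((R : Subgroup L) : Set L)) * Nat.card (Sylow 11 L) = Nat.card L := by
    intro L R hR
    have hmul := Subgroup.card_mul_index (normalizer ((R : Subgroup L) : Set L))
    have hidx : Nat.card (Sylow 11 L) = (normalizer ((R : Subgroup L) : Set L)).index := R.card_eq_index_normalizer
    rw [← hidx] at hmul
    refine ⟨?_, hmul⟩
    have h11 := Subgroup.card_dvd_of_le (le_normalizer (H := (R : Subgroup L)))
    rw [hR] at h11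
    obtain ⟨a, ha⟩ := h11
    have h2 : Nat.card (Sylow 11 L) ∣ 60 := by
      refine Nat.dvd_of_mul_dvd_mul_left (k := 11) (by norm_num) ?_
      refine Dvd.dvd.trans ⟨a, ?_⟩ (hdvd L)
      rw [← hmul, ha]; ring
    exact hcases _ (Nat.mem_divisors.2 ⟨h2, by norm_num⟩) (card_sylow_modEq_one 11 L)
  have hNQ : Nat.card (normalizer ((Q : Subgroup K) : Set K)) = 55 := by
    have hmul := Subgroup.card_mul_index (normalizer ((Q : Subgroup K) : Set K))
    have hidx : Nat.card (Sylow 11 K) = (normalizer ((Q : Subgroup K) : Set K)).index := Q.card_eq_index_normalizer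
    rw [← hidx, hK] at hmul
    have h11 := Subgroup.card_dvd_of_le (le_normalizer (H := (Q : Subgroup K)))
    rw [hQ] at h11
    obtain ⟨a, ha⟩ := h11
    have h2 : Nat.card (Sylow 11 K) ∣ 60 := by
      refine Nat.dvd_of_mul_dvd_mul_left (k := 11) (by norm_num) ⟨a, ?_⟩
      rw [show 11 * 60 = 660 from rfl, ← hmul, ha]; ring
    rcases hcases _ (Nat.mem_divisors.2 ⟨h2, by norm_num⟩) (card_sylow_modEq_one 11 K) with h3 | h3
    · exact absurd h3 (card_syl_ne_one hna Q hQ)
    · rw [h3] at hmul; omega
  obtain ⟨t, ht⟩ := exists_prime_orderOf_dvd_card' (G := K) 2 (by rw [hK]; norm_num)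
  have hcyc : IsCyclic (Q : Subgroup K) := isCyclic_of_prime_card hQ
  obtain ⟨g, hg⟩ := hcyc.exists_generator
  refine ⟨t, g, ?_, by rw [← ht]; exact pow_orderOf_eq_one t, ?_⟩
  · rintro rfl
    rw [orderOf_one] at ht
    omega
  set L : Subgroup K := closure {t, (g : K)} with hL
  have htL : t ∈ L := subset_closure (Set.mem_insert _ _)
  have hQL : (Q : Subgroup K) ≤ L := by
    intro y hy
    obtain ⟨j, hj⟩ := mem_zpowers_iff.1 (hg ⟨y, hy⟩)
    have h1 : y = (g : K) ^ j := by
      have := congrArg Subtype.val hj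
      exact this.symm
    rw [h1]
    exact L.zpow_mem (subset_closure (Set.mem_insert_of_mem _ rfl)) j
  by_contra hLtop
  let R : Sylow 11 L := Q.subtype hQL
  have hRc : (R : Subgroup L) = (Q : Subgroup K).subgroupOf L := Sylow.coe_subtype _ _
  have hR : Nat.card (R : Subgroup L) = 11 := by
    rw [hRc, Nat.card_congr (Subgroup.subgroupOfEquivOfLe hQL).toEquiv, hQ]
  obtain ⟨h1, h2⟩ := hnum L R hR
  rcases h1 with h1 | h1
  · -- `Q` is normal in `L`
    rw [R.card_eq_index_normalizer, Subgroup.index_eq_one] at h1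
    have h1' : normalizer ((R : Subgroup L) : Set L) = ⊤ := h1
    have h3 : t ∈ normalizer ((Q : Subgroup K) : Set K) := by
      rw [mem_normalizer_iff]
      intro y
      have h4 : (⟨t, htL⟩ : L) ∈ normalizer ((R : Subgroup L) : Set L) := by rw [h1']; trivial
      have h5 := mem_normalizer_iff.1 h4
      have hmem : ∀ z : L, z ∈ (R : Subgroup L) ↔ (z : K) ∈ Q := fun z => by
        rw [hRc, mem_subgroupOf]
        rfl
      constructor
      · intro hy
        have h6 := (h5 ⟨y, hQL hy⟩).1 ((hmem _).2 hy)
        exact (hmem _).1 h6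
      · intro hy
        have hyL : y ∈ L := by
          have h7 := hQL hy
          have h8 := L.mul_mem (L.mul_mem (L.inv_mem htL) h7) htL
          have h9 : t⁻¹ * (t * y * t⁻¹) * t = y := by group
          rwa [h9] at h8
        exact (hmem _).1 ((h5 ⟨y, hyL⟩).2 ((hmem _).2 hy))
    have h4 : orderOf t ∣ 55 := by
      rw [← hNQ, ← Subgroup.orderOf_mk t h3]
      exact orderOf_dvd_natCard _
    rw [ht] at h4
    norm_num at h4
  · rw [h1] at h2
    have h11 := Subgroup.card_dvd_of_le (le_normalizer (H := (R : Subgroup L)))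
    rw [hR] at h11
    obtain ⟨a, ha⟩ := h11
    have h3 := Subgroup.card_mul_index L
    rw [hK, ← h2, ha] at h3
    have h4 : a * L.index = 5 := by
      have h5 : 132 * (a * L.index) = 132 * 5 := by rw [show 132 * 5 = 660 from rfl, ← h3]; ring
      exact Nat.eq_of_mul_eq_mul_left (by norm_num) h5
    have h5 : L.index ∣ 5 := ⟨a, by rw [← h4]; ring⟩
    have h6 := card_dvd_factorial hLtop
    rcases (Nat.dvd_prime (by norm_num)).1 h5 with h7 | h7
    · exact hLtop (Subgroup.index_eq_one.1 h7)
    · rw [hK, h7] at h6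
      have : Nat.factorial 5 = 120 := rfl
      rw [this] at h6
      norm_num at h6

end Cfsg.Agent.H640.EPC
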