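import Cfsg.Agent.CpAutCo3.MTw
import Cfsg.Agent.CoThreeStd.AutInv
import Cfsg.Agent.SevenLow.MTwelve
import Cfsg.Agent.H640.EPC.Cnt
import Cfsg.Agent.H640.EPC.Elv

/-!
# Counting elements and elementary abelian subgroups of `M12` (helper640, for S3499)

* `card_inv` : at most 891 involutions; `card_three` : at most 10560 elements of order three;
* `cent_eleven` : elements of order eleven are self-centralizing;
* `ea21`, .. : the number of elementary abelian subgroups; `card_prime` : the number of subgroups of prime order.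
-/

set_option autoImplicit false

namespace Cfsg.Agent.H640.EPC.MTw

open Subgroup Cfsg Cfsg.Agent.CoThreeStd.MTwelve Cfsg.Agent.H640.EPC

theorem class_mul_le {G : Type*} [Group G] [Finite G] (x : G) :
    {y : G | ∃ m, m⁻¹ * x * m = y}.ncard * Nat.card (centralizer ({x} : Set G)) ≤ Nat.card G := by
  rw [← Nat.card_coe_set_eq, ← Nat.card_prod]
  choose m hm using fun y : {y : G | ∃ m, m⁻¹ * x * m = y} => y.2
  refine Nat.card_le_card_of_injective (fun z => (z.2 : G) * m z.1) ?_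
  have key : ∀ (y : {y : G | ∃ m, m⁻¹ * x * m = y}) (c : centralizer ({x} : Set G)),
      ((c : G) * m y)⁻¹ * x * (c * m y) = y := by
    intro y c
    have h2 := mem_centralizer_singleton_iff.1 c.2
    calc ((c : G) * m y)⁻¹ * x * (c * m y) = (m y)⁻¹ * ((c : G)⁻¹ * (x * c)) * m y := by group
      _ = y := by rw [← h2, inv_mul_cancel_left, hm]
  rintro ⟨y, c⟩ ⟨y', c'⟩ h
  have h1 : (c : G) * m y = c' * m y' := h
  have h3 : y = y' := Subtype.ext (by rw [← key y c, ← key y' c', h1])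
  subst h3
  rw [mul_left_inj] at h1
  rw [Subtype.ext h1]

theorem class_le {G : Type*} [Group G] [Finite G] {x : G} {k l n : ℕ} (hG : Nat.card G = n)
    (hk : k ≤ Nat.card (centralizer ({x} : Set G))) (hl : n < (l + 1) * k) :
    {y : G | ∃ m, m⁻¹ * x * m = y}.ncard ≤ l := by
  have h1 := class_mul_le x
  rw [hG] at h1
  have h2 : {y : G | ∃ m, m⁻¹ * x * m = y}.ncard * k < (l + 1) * k :=
    lt_of_le_of_lt ((Nat.mul_le_mul_left _ hk).trans h1) hl
  exact Nat.lt_succ_iff.1 (lt_of_mul_lt_mul_right h2 (Nat.zero_le _))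

/-- **the number of involutions** -/
theorem card_inv : {x : Spor.M12 | x ≠ 1 ∧ x ^ 2 = 1}.ncard ≤ 891 := by
  have h1 : {x : Spor.M12 | x ≠ 1 ∧ x ^ 2 = 1} ⊆
      {z : Spor.M12 | ∃ m, m⁻¹ * y * m = z} ∪ {z : Spor.M12 | ∃ m, m⁻¹ * (p * r) * m = z} := by
    rintro x ⟨hx1, hx2⟩
    rcases inv_class x hx1 (by rw [← pow_two]; exact hx2) with h | h
    · exact Or.inl h
    · exact Or.inr h
  have h2 : {z : Spor.M12 | ∃ m, m⁻¹ * y * m = z}.ncard ≤ 396 :=
    class_le (k := 240) card_H card_cent_y.ge (by norm_num)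
  have h3 : {z : Spor.M12 | ∃ m, m⁻¹ * (p * r) * m = z}.ncard ≤ 495 :=
    class_le (k := 192) card_H card_cent_v.ge (by norm_num)
  calc _ ≤ _ := Set.ncard_le_ncard h1 (Set.toFinite _)
    _ ≤ _ := Set.ncard_union_le _ _
    _ ≤ 396 + 495 := Nat.add_le_add h2 h3

/-- centralizers of involutions -/
theorem card_cent_inv (x : Spor.M12) (hx1 : x ≠ 1) (hx2 : x ^ 2 = 1) :
    Nat.card (centralizer ({x} : Set Spor.M12)) ≤ 240 := by
  rcases Cfsg.Agent.CoThreeStd.AutInv.isA_or_isB (a := x) (by rw [← pow_two]; exact hx2) hx1 with h | h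
  · exact h.2.2.le
  · exact h.2.2.le.trans (by norm_num)

theorem U0_ne : Cfsg.Agent.CpAutCo3.MTw.U0 ≠ 1 := by
  intro h
  have h1 := Cfsg.Agent.CpAutCo3.MTw.U0_fix
  rw [h] at h1
  revert h1
  decide +kernel

theorem two_mul_nine {x u : Spor.M12} (hx : x ^ 3 = 1) (hu : u ≠ 1) (hu2 : u * u = 1) (hxu : x * u = u * x) :
    18 ≤ Nat.card (centralizer ({x} : Set Spor.M12)) := by
  have : Fact (Nat.Prime 3) := ⟨Nat.prime_three⟩
  have : Fact (Nat.Prime 2) := ⟨Nat.prime_two⟩
  have h9 : 9 ∣ Nat.card (centralizer ({x} : Set Spor.M12)) := by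
    have h4 := Cfsg.Agent.CpAutCo3.MTw.sq_dvd (p := 3) (G := Spor.M12)
      (by rw [MTwelveType.SylowModel.card_M12]; norm_num) (Cfsg.Agent.CpAutCo3.MTw.isP_zpowers hx)
    simpa using h4
  have h2 : 2 ∣ Nat.card (centralizer ({x} : Set Spor.M12)) := by
    have hu' : u ∈ centralizer ({x} : Set Spor.M12) := mem_centralizer_singleton_iff.2 hxu.symm
    have h3 : orderOf u = 2 := orderOf_eq_prime (by rw [pow_two]; exact hu2) hu
    rw [← h3, ← Subgroup.orderOf_mk u hu']
    exact orderOf_dvd_natCard _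
  exact Nat.le_of_dvd Nat.card_pos (Nat.Coprime.mul_dvd_of_dvd_of_dvd (m := 2) (n := 9) (by norm_num) h2 h9)

theorem A0_cube : Cfsg.Agent.CpAutCo3.MTw.A0 ^ 3 = 1 := by
  have h := wd_eq (l := Cfsg.Agent.CpAutCo3.MTw.wp Cfsg.Agent.CpAutCo3.MTw.wA 3) (l' := []) (by decide +kernel)
  rw [Cfsg.Agent.CpAutCo3.MTw.wd_wp, wd_nil] at h
  exact h

theorem B0_cube : Cfsg.Agent.CpAutCo3.MTw.B0 ^ 3 = 1 := by
  have h := wd_eq (l := Cfsg.Agent.CpAutCo3.MTw.wp Cfsg.Agent.CpAutCo3.MTw.wB 3) (l' := []) (by decide +kernel)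
  rw [Cfsg.Agent.CpAutCo3.MTw.wd_wp, wd_nil] at h
  exact h

/-- **the number of elements of order three** -/
theorem card_three : {x : Spor.M12 | x ≠ 1 ∧ x ^ 3 = 1}.ncard ≤ 10560 := by
  have h1 : {x : Spor.M12 | x ≠ 1 ∧ x ^ 3 = 1} ⊆
      {z : Spor.M12 | ∃ m, m⁻¹ * Cfsg.Agent.CpAutCo3.MTw.A0 * m = z} ∪
        {z : Spor.M12 | ∃ m, m⁻¹ * Cfsg.Agent.CpAutCo3.MTw.B0 * m = z} := by
    rintro x ⟨hx1, hx2⟩
    rcases Cfsg.Agent.CpAutCo3.MTw.classes hx1 hx2 with h | h
    · exact Or.inl h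
    · exact Or.inr h
  have h2 : {z : Spor.M12 | ∃ m, m⁻¹ * Cfsg.Agent.CpAutCo3.MTw.A0 * m = z}.ncard ≤ 5280 :=
    class_le (k := 18) card_H (two_mul_nine A0_cube U0_ne Cfsg.Agent.CpAutCo3.MTw.U0_sq
      Cfsg.Agent.CpAutCo3.MTw.A0_U0) (by norm_num)
  have h3 : {z : Spor.M12 | ∃ m, m⁻¹ * Cfsg.Agent.CpAutCo3.MTw.B0 * m = z}.ncard ≤ 5280 :=
    class_le (k := 18) card_H (two_mul_nine B0_cube Cfsg.Agent.CpAutCo3.MTw.y_ne Cfsg.Agent.CpAutCo3.MTw.y_sq
      Cfsg.Agent.CpAutCo3.MTw.B0_y) (by norm_num)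
  calc _ ≤ _ := Set.ncard_le_ncard h1 (Set.toFinite _)
    _ ≤ _ := Set.ncard_union_le _ _
    _ ≤ 5280 + 5280 := Nat.add_le_add h2 h3

open Cfsg.Agent.SigZero (CoThreeB.D CoThreeM12.fix_le CoThreeM12.map_D)

/-- **elements of order eleven are self-centralizing** -/
theorem cent_eleven (x : Spor.M12) (hx : orderOf x = 11) : Nat.card (centralizer ({x} : Set Spor.M12)) = 11 := by
  classical
  have hx1 : x ≠ 1 := by
    rintro rfl
    rw [orderOf_one] at hx
    omega
  have hD : (CoThreeB.D : Finset GolayPt).card = 12 := SigZero.CoThreeB.card_D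
  have hfix := CoThreeM12.fix_le hx1
  obtain ⟨a, ha⟩ : (CoThreeB.D.filter fun p => ¬ (x : Equiv.Perm GolayPt) p = p).Nonempty := by
    rw [← Finset.card_pos]
    have h := Finset.card_filter_add_card_filter_not (s := CoThreeB.D) (fun p => (x : Equiv.Perm GolayPt) p = p)
    omega
  obtain ⟨haD, ha1⟩ := Finset.mem_filter.1 ha
  -- the orbit of `a` under `x`
  have horb : (MulAction.orbit (zpowers (x : Equiv.Perm GolayPt)) a).ncard = 11 := by
    have h1 := MulAction.card_orbit_mul_card_stabilizer_eq_card_group (zpowers (x : Equiv.Perm GolayPt)) a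
    have h2 : Fintype.card (zpowers (x : Equiv.Perm GolayPt)) = 11 := by
      rw [← Nat.card_eq_fintype_card, Nat.card_zpowers, Subgroup.orderOf_coe, hx]
    rw [h2] at h1
    have h3 : Fintype.card (MulAction.orbit (zpowers (x : Equiv.Perm GolayPt)) a) ∣ 11 := ⟨_, h1.symm⟩
    rw [← Nat.card_coe_set_eq, Nat.card_eq_fintype_card]
    rcases (Nat.dvd_prime (by norm_num)).1 h3 with h4 | h4
    · exfalso
      apply ha1
      have h5 : MulAction.orbit (zpowers (x : Equiv.Perm GolayPt)) a = {a} := by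
        rw [Fintype.card_eq_one_iff] at h4
        obtain ⟨z, hz⟩ := h4
        ext w
        constructor
        · intro hw
          have h6 := hz ⟨w, hw⟩
          have h7 := hz ⟨a, MulAction.mem_orbit_self a⟩
          rw [Set.mem_singleton_iff]
          exact congrArg Subtype.val (h6.trans h7.symm)
        · rintro rfl
          exact MulAction.mem_orbit_self _
      have h6 : (x : Equiv.Perm GolayPt) a ∈ MulAction.orbit (zpowers (x : Equiv.Perm GolayPt)) a :=
        ⟨⟨(x : Equiv.Perm GolayPt), mem_zpowers _⟩, rfl⟩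
      rw [h5] at h6
      exact h6
    · exact h4
  have key : ∀ c : Spor.M12, c * x = x * c → (c : Equiv.Perm GolayPt) a = a → c = 1 := by
    intro c hc hca
    by_contra hc1
    have hle := CoThreeM12.fix_le hc1
    have hsub : MulAction.orbit (zpowers (x : Equiv.Perm GolayPt)) a ⊆
        (CoThreeB.D.filter (fun p => (c : Equiv.Perm GolayPt) p = p) : Finset GolayPt) := by
      rintro _ ⟨⟨_, k, rfl⟩, rfl⟩
      have h1 : ((x ^ k : Spor.M12) : Equiv.Perm GolayPt) a ∈ CoThreeB.D := CoThreeM12.map_D _ haD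
      have h2 : (c : Equiv.Perm GolayPt) (((x ^ k : Spor.M12) : Equiv.Perm GolayPt) a) =
          ((x ^ k : Spor.M12) : Equiv.Perm GolayPt) a := by
        have h3 : c * x ^ k = x ^ k * c := (Commute.zpow_right (show Commute c x from hc) k).eq
        have h4 := congrArg (fun g : Spor.M12 => (g : Equiv.Perm GolayPt) a) h3
        have h5 : (c : Equiv.Perm GolayPt) (((x ^ k : Spor.M12) : Equiv.Perm GolayPt) a) =
          ((x ^ k : Spor.M12) : Equiv.Perm GolayPt) ((c : Equiv.Perm GolayPt) a) := h4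
        rw [h5, hca]
      rw [Finset.mem_coe, Finset.mem_filter]
      exact ⟨h1, h2⟩
    have h6 := Set.ncard_le_ncard hsub (Finset.finite_toSet _)
    rw [horb, Set.ncard_coe_finset] at h6
    omega
  let f : centralizer ({x} : Set Spor.M12) → CoThreeB.D := fun c =>
    ⟨((c : Spor.M12) : Equiv.Perm GolayPt) a, CoThreeM12.map_D (c : Spor.M12) haD⟩
  have hf : Function.Injective f := by
    intro c d h
    have e1 : ((c : Spor.M12) : Equiv.Perm GolayPt) a = ((d : Spor.M12) : Equiv.Perm GolayPt) a :=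
      congrArg (fun z : CoThreeB.D => (z : GolayPt)) h
    have hcom : ((d⁻¹ * c : centralizer ({x} : Set Spor.M12)) : Spor.M12) * x =
        x * ((d⁻¹ * c : centralizer ({x} : Set Spor.M12)) : Spor.M12) :=
      mem_centralizer_singleton_iff.1 (d⁻¹ * c).2
    have h5 := key ((d⁻¹ * c : centralizer ({x} : Set Spor.M12)) : Spor.M12) hcom ?_
    · have h6 : (d : Spor.M12)⁻¹ * (c : Spor.M12) = 1 := h5
      apply Subtype.ext
      rw [inv_mul_eq_one] at h6
      exact h6.symm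
    · show (((d : Spor.M12) : Equiv.Perm GolayPt)).symm (((c : Spor.M12) : Equiv.Perm GolayPt) a) = a
      rw [e1, Equiv.symm_apply_apply]
  have hcard := Nat.card_le_card_of_injective f hf
  rw [Nat.card_eq_fintype_card (α := CoThreeB.D), Fintype.card_coe, hD] at hcard
  have h11 : 11 ∣ Nat.card (centralizer ({x} : Set Spor.M12)) := by
    have hx' : x ∈ centralizer ({x} : Set Spor.M12) := mem_centralizer_singleton_iff.2 rfl
    rw [← hx, ← Subgroup.orderOf_mk x hx']
    exact orderOf_dvd_natCard _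
  obtain ⟨k, hk⟩ := h11
  have hpos : 0 < Nat.card (centralizer ({x} : Set Spor.M12)) := Nat.card_pos
  omega

/-! ### elementary abelian subgroups -/

theorem card_G : Nat.card Spor.M12 = 95040 := card_H

theorem ea_sylow {p n : ℕ} [hp : Fact p.Prime] (h1 : p ∣ 95040) (h2 : ¬ p ^ 2 ∣ 95040)
    (hn : ∀ m ∈ Nat.divisors (95040 / p), m % p = 1 → m ≤ n) : (EA Spor.M12 p 1).ncard ≤ n := by
  have hc : ∀ P : Sylow p Spor.M12, Nat.card (P : Subgroup Spor.M12) = p := fun P =>
    card_syl_eq (by rw [card_G]; exact h1) (by rw [card_G]; exact h2) P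
  have hE : ∀ E : EA Spor.M12 p 1, ∃ P : Sylow p Spor.M12, (P : Subgroup Spor.M12) = E := by
    rintro ⟨E, hE, -⟩
    rw [pow_one] at hE
    have hEp : IsPGroup p E := IsPGroup.of_card (n := 1) (by rw [hE, pow_one])
    obtain ⟨P, hP⟩ := hEp.exists_le_sylow
    exact ⟨P, (Subgroup.eq_of_le_of_card_ge hP (by rw [hc, hE])).symm⟩
  choose f hf using hE
  have hfi : Function.Injective f := by
    intro E E' h
    apply Subtype.ext
    rw [← hf E, ← hf E', h]
  have h3 := Nat.card_le_card_of_injective f hfi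
  rw [Nat.card_coe_set_eq] at h3
  refine h3.trans (hn _ (Nat.mem_divisors.2 ⟨?_, ?_⟩) ?_)
  · obtain ⟨P⟩ : Nonempty (Sylow p Spor.M12) := inferInstance
    have h4 := P.card_dvd_index
    have h5 := Subgroup.card_mul_index (P : Subgroup Spor.M12)
    rw [hc, card_G] at h5
    have h6 : (P : Subgroup Spor.M12).index = 95040 / p := by
      rw [← h5, Nat.mul_div_cancel_left _ hp.out.pos]
    rw [← h6]
    exact h4
  · obtain ⟨k, hk⟩ := h1
    rw [hk, Nat.mul_div_cancel_left _ hp.out.pos]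
    rintro rfl
    omega
  · have h7 : Nat.card (Sylow p Spor.M12) % p = 1 % p := card_sylow_modEq_one p Spor.M12
    rwa [Nat.mod_eq_of_lt hp.out.one_lt] at h7

theorem ea5 : (EA Spor.M12 5 1).ncard ≤ 6336 := by
  have : Fact (Nat.Prime 5) := ⟨by norm_num⟩
  refine ea_sylow (by norm_num) (by norm_num) ?_
  decide +kernel

theorem ea11 : (EA Spor.M12 11 1).ncard ≤ 8640 := by
  have : Fact (Nat.Prime 11) := ⟨by norm_num⟩
  refine ea_sylow (by norm_num) (by norm_num) ?_
  intro m hm _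
  exact Nat.le_of_dvd (by norm_num) (Nat.dvd_of_mem_divisors hm)

theorem ea2 (k n : ℕ) (hk : 1 ≤ k) (h : 891 * bnd 240 2 k < (n + 1) * (2 ^ k - 1)) : (EA Spor.M12 2 k).ncard ≤ n := by
  have : Fact (Nat.Prime 2) := ⟨Nat.prime_two⟩
  have h1 := ea_card (p := 2) hk card_inv card_cent_inv
  exact Nat.lt_succ_iff.1 (lt_of_mul_lt_mul_right (lt_of_le_of_lt h1 h) (Nat.zero_le _))

theorem ea3 (k n : ℕ) (hk : 1 ≤ k) (h : 10560 * bnd 144 3 k < (n + 1) * (3 ^ k - 1)) : (EA Spor.M12 3 k).ncard ≤ n := by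
  have : Fact (Nat.Prime 3) := ⟨Nat.prime_three⟩
  have h1 := ea_card (p := 3) hk card_three fun x h1 h3 => Cfsg.Agent.CpAutCo3.MTw.card_cent_le h1 h3
  exact Nat.lt_succ_iff.1 (lt_of_mul_lt_mul_right (lt_of_le_of_lt h1 h) (Nat.zero_le _))

theorem ea21 : (EA Spor.M12 2 1).ncard ≤ 891 := ea2 1 891 le_rfl (by decide +kernel)
theorem ea22 : (EA Spor.M12 2 2).ncard ≤ 35343 := ea2 2 35343 (by norm_num) (by decide +kernel)
theorem ea23 : (EA Spor.M12 2 3).ncard ≤ 893673 := ea2 3 893673 (by norm_num) (by decide +kernel)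
theorem ea31 : (EA Spor.M12 3 1).ncard ≤ 5280 := ea3 1 5280 le_rfl (by decide +kernel)
theorem ea32 : (EA Spor.M12 3 2).ncard ≤ 30360 := ea3 2 30360 (by norm_num) (by decide +kernel)
theorem ea33 : (EA Spor.M12 3 3).ncard ≤ 65390 := ea3 3 65390 (by norm_num) (by decide +kernel)

/-- the elementary abelian subgroups -/
theorem ea_cases {p : ℕ} (hp : p.Prime) {E : Subgroup Spor.M12} (hE : E ≠ ⊥) (hc : ∀ a ∈ E, ∀ b ∈ E, a * b = b * a)
    (hpE : ∀ a ∈ E, a ^ p = 1) :
    ((E ∈ EA Spor.M12 2 1 ∨ E ∈ EA Spor.M12 2 2 ∨ E ∈ EA Spor.M12 2 3) ∨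
      (E ∈ EA Spor.M12 3 1 ∨ E ∈ EA Spor.M12 3 2 ∨ E ∈ EA Spor.M12 3 3)) ∨
      (E ∈ EA Spor.M12 5 1 ∨ E ∈ EA Spor.M12 11 1) := by
  have := Fact.mk hp
  have hEp : IsPGroup p E := fun g => ⟨1, Subtype.ext (by
    show (g : Spor.M12) ^ (p ^ 1) = 1
    rw [pow_one]; exact hpE g g.2)⟩
  obtain ⟨k, hk⟩ := IsPGroup.iff_card.1 hEp
  have hk0 : k ≠ 0 := by
    rintro rfl
    rw [pow_zero] at hk
    exact hE (Subgroup.card_eq_one.1 hk)
  have hmem : E ∈ EA Spor.M12 p k := ⟨hk, hc, hpE⟩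
  have hd : p ^ k ∣ 95040 := by
    rw [← hk, ← card_G]
    exact Subgroup.card_subgroup_dvd_card _
  have hpd : p ∣ 95040 := (dvd_pow_self p hk0).trans hd
  have hp4 : p = 2 ∨ p = 3 ∨ p = 5 ∨ p = 11 := by
    have h1 : (95040 : ℕ) = 2 ^ 6 * (3 ^ 3 * (5 * 11)) := by norm_num
    rw [h1, hp.dvd_mul, hp.dvd_mul, hp.dvd_mul] at hpd
    rcases hpd with h | h | h | h
    · exact Or.inl ((Nat.prime_dvd_prime_iff_eq hp Nat.prime_two).1 (hp.dvd_of_dvd_pow h))
    · exact Or.inr (Or.inl ((Nat.prime_dvd_prime_iff_eq hp Nat.prime_three).1 (hp.dvd_of_dvd_pow h)))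
    · exact Or.inr (Or.inr (Or.inl ((Nat.prime_dvd_prime_iff_eq hp (by norm_num)).1 h)))
    · exact Or.inr (Or.inr (Or.inr ((Nat.prime_dvd_prime_iff_eq hp (by norm_num)).1 h)))
  have hk2 : ∀ l, ¬ p ^ l ∣ 95040 → k < l := by
    intro l hl
    by_contra hcon
    exact hl ((pow_dvd_pow p (by omega)).trans hd)
  rcases hp4 with rfl | rfl | rfl | rfl
  · left; left
    have hr := Cfsg.Agent.SevenLow.MTwelve.low (G := Spor.M12) ⟨MulEquiv.refl _⟩ E
      ⟨⟨fun a b => Subtype.ext (hc a a.2 b b.2)⟩⟩ hpE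
    rw [hk] at hr
    have hk3 : k ≤ 3 := by
      by_contra hcon
      have h1 : 2 ^ 4 ≤ 2 ^ k := Nat.pow_le_pow_right (by norm_num) (by omega)
      omega
    have h3 : k = 1 ∨ k = 2 ∨ k = 3 := by omega
    rcases h3 with rfl | rfl | rfl
    · exact Or.inl hmem
    · exact Or.inr (Or.inl hmem)
    · exact Or.inr (Or.inr hmem)
  · left; right
    have hk3 := hk2 4 (by norm_num)
    have h3 : k = 1 ∨ k = 2 ∨ k = 3 := by omega
    rcases h3 with rfl | rfl | rfl
    · exact Or.inl hmem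
    · exact Or.inr (Or.inl hmem)
    · exact Or.inr (Or.inr hmem)
  · right; left
    have hk3 := hk2 2 (by norm_num)
    have h3 : k = 1 := by omega
    rwa [h3] at hmem
  · right; right
    have hk3 := hk2 2 (by norm_num)
    have h3 : k = 1 := by omega
    rwa [h3] at hmem

/-- **the number of subgroups of prime order** -/
theorem card_prime : {E : Subgroup Spor.M12 | (Nat.card E).Prime}.ncard ≤ 21147 := by
  have h1 : {E : Subgroup Spor.M12 | (Nat.card E).Prime} ⊆
      (EA Spor.M12 2 1 ∪ EA Spor.M12 3 1) ∪ (EA Spor.M12 5 1 ∪ EA Spor.M12 11 1) := by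
    intro E hE
    have hE' : (Nat.card E).Prime := hE
    have := Fact.mk hE'
    have hcyc : IsCyclic E := isCyclic_of_prime_card (p := Nat.card E) rfl
    have hcm : IsMulCommutative E := hcyc.isMulCommutative
    have hc : ∀ a ∈ E, ∀ b ∈ E, a * b = b * a := fun a ha b hb =>
      congrArg Subtype.val (hcm.is_comm.comm (⟨a, ha⟩ : E) ⟨b, hb⟩)
    have hpE : ∀ a ∈ E, a ^ Nat.card E = 1 := fun a ha =>
      congrArg Subtype.val (pow_card_eq_one' (x := (⟨a, ha⟩ : E)))
    have hne : E ≠ ⊥ := by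
      rintro rfl
      rw [card_bot] at hE'
      exact Nat.not_prime_one hE'
    have key : ∀ q k : ℕ, 1 < k → q.Prime → E ∉ EA Spor.M12 q k := by
      rintro q k hk hq ⟨h2, -⟩
      rw [h2] at hE'
      exact Nat.Prime.not_prime_pow (by omega) hE'
    rcases ea_cases hE' hne hc hpE with ((h | h | h) | (h | h | h)) | (h | h)
    · exact Or.inl (Or.inl h)
    · exact absurd h (key 2 2 (by norm_num) Nat.prime_two)
    · exact absurd h (key 2 3 (by norm_num) Nat.prime_two)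
    · exact Or.inl (Or.inr h)
    · exact absurd h (key 3 2 (by norm_num) Nat.prime_three)
    · exact absurd h (key 3 3 (by norm_num) Nat.prime_three)
    · exact Or.inr (Or.inl h)
    · exact Or.inr (Or.inr h)
  calc _ ≤ _ := Set.ncard_le_ncard h1 (Set.toFinite _)
    _ ≤ _ := Set.ncard_union_le _ _
    _ ≤ (891 + 5280) + (6336 + 8640) := Nat.add_le_add
        ((Set.ncard_union_le _ _).trans (Nat.add_le_add ea21 ea31))
        ((Set.ncard_union_le _ _).trans (Nat.add_le_add ea5 ea11))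

end Cfsg.Agent.H640.EPC.MTw
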